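import Cfsg.Agent.Lib.ThreeTransp.SymFix.Hom

/-!
# A group acting on the transpositions of a symmetric subgroup
-/

set_option autoImplicit false

namespace CfsgLib.SymFix

open CfsgLib.M22Sylow (Loc.card_le_mul Loc.card_mul_le_sup Loc.sup_eq_of_card Loc.card_eq_mul)
open Equiv (swap)

variable {G : Type*} [Group G] [Finite G] {n : ℕ} {φ : Equiv.Perm (Fin n) →* G} (hφ : Function.Injective φ)
  {T : Set G} (hT : T = φ '' swaps n)
include hφ hT

theorem closure_eq_range : Subgroup.closure T = φ.range := by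
  rw [hT, ← MonoidHom.map_closure, swaps, Equiv.Perm.closure_isSwap, ← MonoidHom.range_eq_map]

theorem card_closure : Nat.card ↥(Subgroup.closure T) = n.factorial := by
  rw [closure_eq_range hφ hT, ← Nat.card_congr (MonoidHom.ofInjective hφ).toEquiv, Nat.card_perm, Nat.card_fin]

theorem closure_iso : Nonempty (↥(Subgroup.closure T) ≃* Equiv.Perm (Fin n)) :=
  ⟨(MulEquiv.subgroupCongr (closure_eq_range hφ hT)).trans (MonoidHom.ofInjective hφ).symm⟩

omit hφ [Finite G] in
theorem map_swap_mem {i j : Fin n} (h : i ≠ j) : φ (swap i j) ∈ T := by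
  rw [hT]; exact ⟨_, swap_mem h, rfl⟩

theorem disjoint_centralizer (hn : 3 ≤ n) : Subgroup.centralizer T ⊓ Subgroup.closure T = ⊥ := by
  refine (Subgroup.eq_bot_iff_forall _).2 fun z hz => ?_
  obtain ⟨hz1, hz2⟩ := Subgroup.mem_inf.1 hz
  rw [closure_eq_range hφ hT] at hz2
  obtain ⟨σ, rfl⟩ := hz2
  rw [eq_one_of_commute hn fun i j hij => (commute_map_iff hφ σ (swap i j)).1
    (Subgroup.mem_centralizer_iff.1 hz1 _ (map_swap_mem hT hij)).symm, map_one]

omit hφ [Finite G] hT in
theorem centralizer_commute {x z : G} (hx : x ∈ Subgroup.centralizer T) (hz : z ∈ Subgroup.closure T) :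
    x * z = z * x := by
  rw [← Subgroup.centralizer_closure] at hx
  exact (Subgroup.mem_centralizer_iff.1 hx z hz).symm

/-- All members are conjugate under the symmetric group. -/
theorem exists_conj {e e' : G} (he : e ∈ T) (he' : e' ∈ T) : ∃ g ∈ Subgroup.closure T, g * e * g⁻¹ = e' := by
  rw [hT] at he he'
  obtain ⟨_, ⟨i, j, hij, rfl⟩, rfl⟩ := he
  obtain ⟨_, ⟨k, l, hkl, rfl⟩, rfl⟩ := he'
  obtain ⟨g, hg⟩ := isConj_iff.1 (Equiv.Perm.isConj_swap hij hkl)
  exact ⟨φ g, by rw [closure_eq_range hφ hT]; exact ⟨g, rfl⟩, by rw [← hg, map_mul, map_mul, map_inv]⟩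

/-- A group acting on the transpositions acts as the symmetric group. -/
theorem card_eq_factorial_mul (hn : 3 ≤ n) (h2 : (swaps n).ncard * 2 = n * (n - 1)) (M : Subgroup G)
    (hM : ∀ g ∈ M, ∀ e ∈ T, g * e * g⁻¹ ∈ T) (hH : Subgroup.closure T ≤ M) :
    Nat.card M = n.factorial * Nat.card ↥(M ⊓ Subgroup.centralizer T) ∧
      (M ⊓ Subgroup.centralizer T) ⊔ Subgroup.closure T = M := by
  classical
  let s : ℕ → Equiv.Perm (Fin n) := fun k =>
    if h : k + 1 < n then swap ⟨k, by omega⟩ ⟨k + 1, h⟩ else 1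
  have hs : ∀ {k : ℕ} (h : k + 1 < n), s k = swap ⟨k, by omega⟩ ⟨k + 1, h⟩ := fun h => dif_pos h
  let A : ℕ → Set G := fun k => {x | ∃ j, j < k ∧ φ (s j) = x}
  let K : ℕ → Subgroup G := fun k => M ⊓ Subgroup.centralizer (A k)
  have hK0 : K 0 = M := le_antisymm inf_le_left (le_inf le_rfl fun g _ =>
    Subgroup.mem_centralizer_iff.2 fun x hx => by obtain ⟨j, hj, -⟩ := hx; omega)
  have hKfix : ∀ {k : ℕ} {g : G}, g ∈ K k → ∀ j, j < k → Commute g (φ (s j)) := fun hg j hj =>
    (Subgroup.mem_centralizer_iff.1 (Subgroup.mem_inf.1 hg).2 _ ⟨j, hj, rfl⟩).symm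
  have hstep : ∀ k, K k ⊓ Subgroup.centralizer ({φ (s k)} : Set G) ≤ K (k + 1) := by
    intro k g hg
    obtain ⟨h1, h2⟩ := Subgroup.mem_inf.1 hg
    refine Subgroup.mem_inf.2 ⟨(Subgroup.mem_inf.1 h1).1, Subgroup.mem_centralizer_iff.2 ?_⟩
    rintro x ⟨j, hj, rfl⟩
    rcases Nat.lt_succ_iff_lt_or_eq.1 hj with h | rfl
    · exact (hKfix h1 j h).symm.eq
    · exact (Subgroup.mem_centralizer_singleton_iff.1 h2).symm
  have himg : ∀ {k : ℕ}, k + 1 < n → ∀ g ∈ K k, ∃ p q : Fin n, p ≠ q ∧ φ (swap p q) = g * φ (s k) * g⁻¹ ∧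
      ∀ j, j < k → swap p q ≠ s j ∧ (Commute (s j) (s k) → Commute (s j) (swap p q)) ∧
        (Commute (s j) (swap p q) → Commute (s j) (s k)) := by
    intro k hk g hg
    have hm := hM g (Subgroup.mem_inf.1 hg).1 (φ (s k)) (by rw [hs hk]; exact map_swap_mem hT (by simp))
    rw [hT] at hm
    obtain ⟨_, ⟨p, q, hpq, rfl⟩, he⟩ := hm
    refine ⟨p, q, hpq, he, fun j hj => ?_⟩
    have hc := hKfix hg j hj
    have hfix : g * φ (s j) * g⁻¹ = φ (s j) := by rw [hc.eq, mul_inv_cancel_right]
    refine ⟨fun e => ?_, fun h => (commute_map_iff hφ _ _).1 ?_, fun h => (commute_map_iff hφ _ _).1 ?_⟩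
    · rw [e, ← hfix] at he
      have h' := hφ (mul_left_cancel (mul_right_cancel he))
      rw [hs hk, hs (show j + 1 < n by omega)] at h'
      rcases swap_pair_eq (by simp) h' with ⟨e1, e2⟩ | ⟨e1, e2⟩ <;> simp only [Fin.ext_iff] at e1 e2 <;> omega
    · rw [← hfix, he]
      exact (Commute.conj_iff g).2 (h.map φ)
    · have := h.map φ
      rw [← hfix, he] at this
      exact (Commute.conj_iff g).1 this
  -- the three kinds of steps
  have hb0 : Nat.card M ≤ (swaps n).ncard * Nat.card ↥(K 1) := by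
    refine (Loc.card_le_mul M (φ (s 0)) T fun g hg => hM g hg _ ?_).trans (Nat.mul_le_mul ?_ ?_)
    · rw [hs (by omega)]; exact map_swap_mem hT (by simp)
    · rw [hT, Set.ncard_image_of_injective _ hφ]
    · exact Nat.le_of_dvd Nat.card_pos (Subgroup.card_dvd_of_le
        (le_trans (inf_le_inf_right _ hK0.ge) (hstep 0)))
  have hb1 : Nat.card ↥(K 1) ≤ (2 * (n - 2)) * Nat.card ↥(K 2) := by
    let z : Fin n := ⟨0, by omega⟩
    let o : Fin n := ⟨1, by omega⟩
    let P : Finset (Fin n × Fin n) := ({z, o} : Finset (Fin n)) ×ˢ ((Finset.univ.erase z).erase o)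
    have hP : P.card = 2 * (n - 2) := by
      have hzo : z ≠ o := by simp [z, o]
      rw [Finset.card_product, Finset.card_pair hzo, Finset.card_erase_of_mem (Finset.mem_erase.2
        ⟨hzo.symm, Finset.mem_univ _⟩), Finset.card_erase_of_mem (Finset.mem_univ _), Finset.card_univ,
        Fintype.card_fin]
      omega
    refine (Loc.card_le_mul (K 1) (φ (s 1)) ((P : Set (Fin n × Fin n)).image fun p => φ (swap p.1 p.2))
      fun g hg => ?_).trans (Nat.mul_le_mul ?_ ?_)
    · obtain ⟨p, q, hpq, he, hj⟩ := himg (show 1 + 1 < n by omega) g hg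
      obtain ⟨hne, -, hcm⟩ := hj 0 one_pos
      rw [← he]
      rw [hs (show 0 + 1 < n by omega)] at hne hcm
      rw [hs (show 1 + 1 < n by omega)] at hcm
      have hnc : ¬ Commute (swap z o) (swap p q) := fun h => swap_not_commute (by simp) (by simp) (by simp) (hcm h)
      have hdis : ¬ (z ≠ p ∧ z ≠ q ∧ o ≠ p ∧ o ≠ q) := fun h => hnc (swap_commute h.1 h.2.1 h.2.2.1 h.2.2.2)
      have hne' : ¬ ((p = z ∧ q = o) ∨ (p = o ∧ q = z)) := by
        rintro (⟨rfl, rfl⟩ | ⟨rfl, rfl⟩)
        · exact hne rfl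
        · exact hne (Equiv.swap_comm _ _)
      have key : (p, q) ∈ P ∨ (q, p) ∈ P := by
        simp only [P, Finset.mem_product, Finset.mem_insert, Finset.mem_singleton, Finset.mem_erase,
          Finset.mem_univ, and_true]
        grind
      rcases key with h | h
      · exact ⟨(p, q), h, rfl⟩
      · exact ⟨(q, p), h, by rw [Equiv.swap_comm]⟩
    · exact (Set.ncard_image_le (Set.toFinite _)).trans (by rw [Set.ncard_coe_finset, hP])
    · exact Nat.le_of_dvd Nat.card_pos (Subgroup.card_dvd_of_le (hstep 1))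
  have hbk : ∀ k, 2 ≤ k → k + 1 < n → Nat.card ↥(K k) ≤ (n - 1 - k) * Nat.card ↥(K (k + 1)) := by
    intro k hk2 hk
    let w : Fin n := ⟨k, by omega⟩
    let P : Finset (Fin n) := Finset.univ.filter fun j => k < (j : ℕ)
    have hP : P.card = n - 1 - k := by
      rw [show P = Finset.Ioi w from by ext j; simp [P, w, Fin.lt_def], Fin.card_Ioi]
    refine (Loc.card_le_mul (K k) (φ (s k)) ((P : Set (Fin n)).image fun j => φ (swap w j))
      fun g hg => ?_).trans (Nat.mul_le_mul ?_ ?_)
    · obtain ⟨p, q, hpq, he, hj⟩ := himg hk g hg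
      rw [← he]
      -- the support avoids the first `k` points
      have havoid : ∀ i : ℕ, i + 1 < k → (p : ℕ) ≠ i ∧ (p : ℕ) ≠ i + 1 ∧ (q : ℕ) ≠ i ∧ (q : ℕ) ≠ i + 1 := by
        intro i hi
        obtain ⟨hne, hcm, -⟩ := hj i (by omega)
        rw [hs (show i + 1 < n by omega)] at hne hcm
        rw [hs hk] at hcm
        have h := hcm (swap_commute (by simp; omega) (by simp; omega) (by simp; omega) (by simp; omega))
        rcases swap_commute_cases (by simp) hpq h with h | ⟨h1, h2, h3, h4⟩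
        · exact absurd h.symm hne
        · simp only [ne_eq, Fin.ext_iff] at h1 h2 h3 h4
          omega
      have hlow : ∀ i : ℕ, i < k → (p : ℕ) ≠ i ∧ (q : ℕ) ≠ i := by
        intro i hi
        rcases Nat.eq_zero_or_pos i with h0 | h0
        · have := havoid 0 (by omega); omega
        · have := havoid (i - 1) (by omega); omega
      have hw : p = w ∨ q = w := by
        obtain ⟨-, -, hcm⟩ := hj (k - 1) (by omega)
        by_contra hh
        push Not at hh
        rw [hs (show k - 1 + 1 < n by omega), hs hk] at hcm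
        have h1 := hlow (k - 1) (by omega)
        have hpw : (p : ℕ) ≠ k := fun e => hh.1 (Fin.ext e)
        have hqw : (q : ℕ) ≠ k := fun e => hh.2 (Fin.ext e)
        have h := hcm (swap_commute (by simp [Fin.ext_iff]; omega) (by simp [Fin.ext_iff]; omega)
          (by simp [Fin.ext_iff]; omega) (by simp [Fin.ext_iff]; omega))
        have hk1 : (⟨k - 1 + 1, by omega⟩ : Fin n) = ⟨k, by omega⟩ := Fin.ext (by simp; omega)
        rw [hk1] at h
        exact swap_not_commute (by simp [Fin.ext_iff]; omega) (by simp [Fin.ext_iff]) (by simp [Fin.ext_iff]) h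
      have hge : k ≤ (p : ℕ) ∧ k ≤ (q : ℕ) := by
        refine ⟨?_, ?_⟩ <;> by_contra hh <;> push Not at hh
        · exact (hlow _ hh).1 rfl
        · exact (hlow _ hh).2 rfl
      have hne' : (p : ℕ) ≠ q := fun e => hpq (Fin.ext e)
      rcases hw with rfl | rfl
      · exact ⟨q, by simp [P, w] at hge hne' ⊢; omega, rfl⟩
      · exact ⟨p, by simp [P, w] at hge hne' ⊢; omega, by rw [Equiv.swap_comm]⟩
    · exact (Set.ncard_image_le (Set.toFinite _)).trans (by rw [Set.ncard_coe_finset, hP])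
    · exact Nat.le_of_dvd Nat.card_pos (Subgroup.card_dvd_of_le (hstep k))
  have hall : ∀ k, 2 ≤ k → k < n → Nat.card M * (n - 1 - k).factorial ≤ n.factorial * Nat.card ↥(K k) := by
    intro k hk2
    induction k, hk2 using Nat.le_induction with
    | base =>
      intro hn2
      have hfac : n.factorial = n * (n - 1) * ((n - 2) * (n - 3).factorial) := by
        obtain ⟨m, rfl⟩ : ∃ m, n = m + 3 := ⟨n - 3, by omega⟩
        simp only [show m + 3 - 1 = m + 2 by omega, show m + 3 - 2 = m + 1 by omega, show m + 3 - 3 = m by omega,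
          Nat.factorial_succ]
        ring
      rw [show n - 1 - 2 = n - 3 by omega]
      calc Nat.card M * (n - 3).factorial
          ≤ (swaps n).ncard * ((2 * (n - 2)) * Nat.card ↥(K 2)) * (n - 3).factorial :=
            Nat.mul_le_mul_right _ (hb0.trans (Nat.mul_le_mul_left _ hb1))
        _ = (swaps n).ncard * 2 * ((n - 2) * (n - 3).factorial) * Nat.card ↥(K 2) := by ring
        _ = n.factorial * Nat.card ↥(K 2) := by rw [h2, hfac]
    | succ k hk2 ih =>
      intro hk
      have h := ih (by omega)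
      have e : (n - 1 - k).factorial = (n - 1 - k) * (n - 1 - (k + 1)).factorial := by
        rw [show n - 1 - k = n - 1 - (k + 1) + 1 by omega, Nat.factorial_succ]
      rw [e] at h
      have hpos : 0 < n - 1 - k := by omega
      refine Nat.le_of_mul_le_mul_left ?_ hpos
      calc (n - 1 - k) * (Nat.card M * (n - 1 - (k + 1)).factorial)
          = Nat.card M * ((n - 1 - k) * (n - 1 - (k + 1)).factorial) := by ring
        _ ≤ n.factorial * Nat.card ↥(K k) := h
        _ ≤ n.factorial * ((n - 1 - k) * Nat.card ↥(K (k + 1))) := Nat.mul_le_mul_left _ (hbk k hk2 hk)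
        _ = (n - 1 - k) * (n.factorial * Nat.card ↥(K (k + 1))) := by ring
  have hlast : K (n - 1) ≤ M ⊓ Subgroup.centralizer T := by
    intro g hg
    refine Subgroup.mem_inf.2 ⟨(Subgroup.mem_inf.1 hg).1, Subgroup.mem_centralizer_iff.2 ?_⟩
    obtain ⟨m, hm⟩ : ∃ m, n = m + 1 := ⟨n - 1, by omega⟩
    subst hm
    rw [hT]
    rintro _ ⟨σ, -, rfl⟩
    refine (commute_of_generators (φ := φ) (fun i => ?_) σ).symm.eq
    have h := hKfix hg (i : ℕ) (by omega)
    rwa [hs (by omega)] at h
  have hle : Nat.card M ≤ n.factorial * Nat.card ↥(M ⊓ Subgroup.centralizer T) := by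
    have h := hall (n - 1) (by omega) (by omega)
    rw [show n - 1 - (n - 1) = 0 by omega, Nat.factorial_zero, mul_one] at h
    exact h.trans (Nat.mul_le_mul_left _ (Nat.le_of_dvd Nat.card_pos (Subgroup.card_dvd_of_le hlast)))
  have hb : (M ⊓ Subgroup.centralizer T) ⊓ Subgroup.closure T = ⊥ := by
    rw [inf_assoc, disjoint_centralizer hφ hT hn, inf_bot_eq]
  have hs' := Loc.sup_eq_of_card inf_le_left hH hb (by rw [card_closure hφ hT, mul_comm]; exact hle)
  refine ⟨le_antisymm hle ?_, hs'⟩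
  have := Loc.card_mul_le_sup hb
  rw [hs', card_closure hφ hT, mul_comm] at this
  exact this

end CfsgLib.SymFix
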