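import Cfsg.Agent.Lib.ThreeTransp.SymFix.Hom

/-!
# Recognising the transpositions avoiding a point
-/

set_option autoImplicit false

namespace CfsgLib.SymFix

open Equiv (swap)

/-- The ten pairs of five points. -/
def pairFive : Fin 10 → Fin 5 × Fin 5 :=
  ![(0, 1), (0, 2), (0, 3), (0, 4), (1, 2), (1, 3), (1, 4), (2, 3), (2, 4), (3, 4)]

/-- Two pairs are disjoint. -/
def disjFive (k l : Fin 10) : Bool :=
  let p := pairFive k
  let q := pairFive l
  decide (p.1 ≠ q.1 ∧ p.1 ≠ q.2 ∧ p.2 ≠ q.1 ∧ p.2 ≠ q.2)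

theorem pairFive_ne : ∀ k, (pairFive k).1 ≠ (pairFive k).2 := by decide

theorem pairFive_surj : ∀ r s : Fin 5, r ≠ s → ∃ k, pairFive k = (r, s) ∨ pairFive k = (s, r) := by decide

theorem pairFive_inj : ∀ k l, ((pairFive l).1 = (pairFive k).1 ∧ (pairFive l).2 = (pairFive k).2) ∨
    ((pairFive l).1 = (pairFive k).2 ∧ (pairFive l).2 = (pairFive k).1) → k = l := by decide

set_option maxRecDepth 10000 in
theorem star_finite : ∀ f : Fin 10 → Bool, (Finset.univ.filter fun k => f k = true).card = 6 →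
    (∀ k, f k = true → (Finset.univ.filter fun l => f l = true ∧ disjFive k l = true).card = 1) →
    ∃ i : Fin 5, ∀ k, f k = decide ((pairFive k).1 ≠ i ∧ (pairFive k).2 ≠ i) := by decide +kernel

variable {G : Type*} [Group G]

/-- Six transpositions on five points, each commuting with one other of them, avoid a common point. -/
theorem star_five [Finite G] {n : ℕ} {ψ : Equiv.Perm (Fin n) →* G} (hψ : Function.Injective ψ) {h : Fin 5 → Fin n}
    (hh : Function.Injective h) {W : Set G}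
    (hW : ∀ x ∈ W, ∃ r s : Fin 5, r ≠ s ∧ ψ (swap (h r) (h s)) = x) (h6 : W.ncard = 6)
    (h1 : ∀ x ∈ W, {y | y ∈ W ∧ y ≠ x ∧ Commute x y}.ncard = 1) :
    ∃ i : Fin 5, ∀ r s, r ≠ s → (ψ (swap (h r) (h s)) ∈ W ↔ r ≠ i ∧ s ≠ i) := by
  classical
  obtain ⟨g, hg⟩ : ∃ g : Fin 10 → G, ∀ k, g k = ψ (swap (h (pairFive k).1) (h (pairFive k).2)) :=
    ⟨_, fun _ => rfl⟩
  have hinj : Function.Injective g := fun k l e => by
    rw [hg, hg] at e
    refine pairFive_inj k l ?_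
    rcases swap_pair_eq (hh.ne (pairFive_ne k)) (hψ e) with ⟨e1, e2⟩ | ⟨e1, e2⟩
    · exact Or.inl ⟨hh e1, hh e2⟩
    · exact Or.inr ⟨hh e1, hh e2⟩
  have hrange : ∀ r s : Fin 5, r ≠ s → ∃ k, g k = ψ (swap (h r) (h s)) ∧
      (pairFive k = (r, s) ∨ pairFive k = (s, r)) := by
    intro r s hrs
    obtain ⟨k, hk⟩ := pairFive_surj r s hrs
    refine ⟨k, ?_, hk⟩
    rw [hg]
    rcases hk with e | e <;> rw [e]
    rw [Equiv.swap_comm]
  have hsurj : ∀ x ∈ W, ∃ k, g k = x := fun x hx => by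
    obtain ⟨r, s, hrs, rfl⟩ := hW x hx
    obtain ⟨k, hk, -⟩ := hrange r s hrs
    exact ⟨k, hk⟩
  have hcomm : ∀ k l, (g l ≠ g k ∧ Commute (g k) (g l)) ↔ disjFive k l = true := by
    intro k l
    rw [hg, hg, commute_map_iff hψ, disjFive, decide_eq_true_iff]
    constructor
    · rintro ⟨hne, hc⟩
      rcases swap_commute_cases (hh.ne (pairFive_ne k)) (hh.ne (pairFive_ne l)) hc with e | ⟨a, b, c, d⟩
      · exact absurd (congrArg ψ e).symm hne
      · exact ⟨fun e => a (congrArg h e), fun e => b (congrArg h e), fun e => c (congrArg h e),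
          fun e => d (congrArg h e)⟩
    · rintro ⟨a, b, c, d⟩
      refine ⟨fun e => ?_, swap_commute (hh.ne a) (hh.ne b) (hh.ne c) (hh.ne d)⟩
      rcases swap_pair_eq (hh.ne (pairFive_ne l)) (hψ e) with ⟨e1, -⟩ | ⟨e1, -⟩
      · exact a (hh e1)
      · exact b (hh e1)
  obtain ⟨f, hf⟩ : ∃ f : Fin 10 → Bool, ∀ k, (f k = true ↔ g k ∈ W) := ⟨fun k => decide (g k ∈ W), fun k => by simp⟩
  obtain ⟨i, hi⟩ := star_finite f (by
    rw [← h6, ← Set.ncard_coe_finset, ← Set.ncard_image_of_injective _ hinj]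
    congr 1
    ext x
    simp only [Set.mem_image, Finset.coe_filter, Finset.mem_univ, true_and, Set.mem_ofPred_eq, hf]
    exact ⟨fun ⟨k, hk, e⟩ => e ▸ hk, fun hx => (hsurj x hx).elim fun k hk => ⟨k, hk ▸ hx, hk⟩⟩)
    fun k hk => by
      rw [← h1 (g k) ((hf k).1 hk), ← Set.ncard_coe_finset, ← Set.ncard_image_of_injective _ hinj]
      congr 1
      ext x
      simp only [Set.mem_image, Finset.coe_filter, Finset.mem_univ, true_and, Set.mem_ofPred_eq, hf, ← hcomm]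
      constructor
      · rintro ⟨l, ⟨h1, h2⟩, rfl⟩; exact ⟨h1, h2⟩
      · rintro ⟨hx, h2⟩
        obtain ⟨l, rfl⟩ := hsurj x hx
        exact ⟨l, ⟨hx, h2⟩, rfl⟩
  refine ⟨i, fun r s hrs => ?_⟩
  obtain ⟨k, hk, hp⟩ := hrange r s hrs
  rw [← hk, ← hf, hi, decide_eq_true_iff]
  rcases hp with e | e <;> rw [e]
  exact and_comm

theorem exists_two_avoid (S : Finset (Fin 7)) (hS : S.card ≤ 5) : ∃ j k, j ≠ k ∧ j ∉ S ∧ k ∉ S := by
  have h : 1 < Sᶜ.card := by rw [Finset.card_compl, Fintype.card_fin]; omega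
  obtain ⟨j, hj, k, hk, hjk⟩ := Finset.one_lt_card.1 h
  exact ⟨j, k, hjk, Finset.mem_compl.1 hj, Finset.mem_compl.1 hk⟩

/-- A set of pairs of seven points avoiding a point around each of its members avoids one point. -/
theorem star_seven (P : Fin 7 → Fin 7 → Prop) (hsym : ∀ r s, P r s → P s r)
    (hne : ∃ p q, p ≠ q ∧ P p q)
    (H : ∀ p q, p ≠ q → P p q → ∃ i, i ≠ p ∧ i ≠ q ∧
      ∀ r s, r ≠ s → r ≠ p → r ≠ q → s ≠ p → s ≠ q → (P r s ↔ r ≠ i ∧ s ≠ i)) :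
    ∃ i, ∀ r s, r ≠ s → (P r s ↔ r ≠ i ∧ s ≠ i) := by
  obtain ⟨p, q, hpq, hP⟩ := hne
  obtain ⟨i, hip, hiq, hi⟩ := H p q hpq hP
  refine ⟨i, fun r s hrs => ?_⟩
  have key : ∀ p q : Fin 7, p ≠ q → P p q → i ≠ p → i ≠ q →
      (∀ r s, r ≠ s → r ≠ p → r ≠ q → s ≠ p → s ≠ q → (P r s ↔ r ≠ i ∧ s ≠ i)) →
      ∀ s, s ≠ p → s ≠ q → (P p s ↔ p ≠ i ∧ s ≠ i) := by
    intro p q hpq hP hip hiq hi s hsp hsq
    obtain ⟨j, k, hjk, hj, hk⟩ := exists_two_avoid {p, q, i, s} (le_trans Finset.card_le_four (by norm_num))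
    simp only [Finset.mem_insert, Finset.mem_singleton, not_or] at hj hk
    obtain ⟨hjp, hjq, hji, hjs⟩ := hj
    obtain ⟨hkp, hkq, hki, hks⟩ := hk
    obtain ⟨i', hi'j, hi'k, hi'⟩ := H j k hjk ((hi j k hjk hjp hjq hkp hkq).2 ⟨hji, hki⟩)
    obtain ⟨l, m, hlm, hl, hm⟩ := exists_two_avoid {p, q, i, j, k} (Finset.card_le_five)
    simp only [Finset.mem_insert, Finset.mem_singleton, not_or] at hl hm
    have hnot : ∀ l, l ≠ p → l ≠ q → l ≠ i → l ≠ j → l ≠ k → i' = i ∨ i' = l := by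
      intro l lp lq li lj lk
      by_contra h
      push Not at h
      exact ((hi i l li.symm hip hiq lp lq).1
        ((hi' i l li.symm (Ne.symm hji) (Ne.symm hki) lj lk).2 ⟨h.1.symm, h.2.symm⟩)).1 rfl
    have he : i' = i := by
      rcases hnot l hl.1 hl.2.1 hl.2.2.1 hl.2.2.2.1 hl.2.2.2.2 with h | h
      · exact h
      rcases hnot m hm.1 hm.2.1 hm.2.2.1 hm.2.2.2.1 hm.2.2.2.2 with h' | h'
      · exact h'
      · exact absurd (h.symm.trans h') hlm
    rw [← he]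
    exact hi' p s hsp.symm (Ne.symm hjp) (Ne.symm hkp) (Ne.symm hjs) (Ne.symm hks)
  have hi2 : ∀ r s, r ≠ s → r ≠ q → r ≠ p → s ≠ q → s ≠ p → (P r s ↔ r ≠ i ∧ s ≠ i) :=
    fun r s hrs a b c d => hi r s hrs b a d c
  have hrev : ∀ r s, (P r s ↔ r ≠ i ∧ s ≠ i) → (P s r ↔ s ≠ i ∧ r ≠ i) := fun r s h =>
    ⟨fun h' => (h.1 (hsym _ _ h')).symm, fun h' => hsym _ _ (h.2 h'.symm)⟩
  by_cases hr : r = p
  · subst hr
    by_cases hs : s = q
    · subst hs; exact ⟨fun _ => ⟨hip.symm, hiq.symm⟩, fun _ => hP⟩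
    · exact key r q hpq hP hip hiq hi s hrs.symm hs
  by_cases hr' : r = q
  · subst hr'
    by_cases hs : s = p
    · subst hs; exact ⟨fun _ => ⟨hiq.symm, hip.symm⟩, fun _ => hsym _ _ hP⟩
    · exact key r p (Ne.symm hpq) (hsym _ _ hP) hiq hip hi2 s hrs.symm hs
  by_cases hs : s = p
  · subst hs
    exact hrev _ _ (key s q hpq hP hip hiq hi r hr hr')
  by_cases hs' : s = q
  · subst hs'
    exact hrev _ _ (key s p (Ne.symm hpq) (hsym _ _ hP) hiq hip hi2 r hr' hr)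
  exact hi r s hrs hr hr' hs hs'

end CfsgLib.SymFix
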