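import Cfsg.Agent.S2530
import Cfsg.Agent.Lib.ThreeTransp.M22Sylow.Local
import Cfsg.Agent.Lib.ThreeTransp.Basic

/-!
# Sets of 3-transpositions forming the transpositions of a symmetric group
-/

set_option autoImplicit false

namespace CfsgLib.SymFix

open CfsgLib.ThreeTransp
open CfsgLib.M22Sylow (Loc.card_le_mul Loc.card_mul_le_sup Loc.sup_eq_of_card Loc.card_eq_mul)
open Equiv (swap)

/-- The transpositions of `Fin n`. -/
def swaps (n : ℕ) : Set (Equiv.Perm (Fin n)) := {σ | σ.IsSwap}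

theorem swap_mem {n : ℕ} {i j : Fin n} (h : i ≠ j) : swap i j ∈ swaps n := ⟨i, j, h, rfl⟩

theorem swap_pair_eq {n : ℕ} {i j k l : Fin n} (hij : i ≠ j) (h : swap i j = swap k l) :
    (k = i ∧ l = j) ∨ (k = j ∧ l = i) := by
  have h1 := Equiv.congr_fun h i
  rw [Equiv.swap_apply_left] at h1
  by_cases e1 : i = k
  · rw [← e1, Equiv.swap_apply_left] at h1
    exact Or.inl ⟨e1.symm, h1.symm⟩
  by_cases e2 : i = l
  · rw [← e2, Equiv.swap_apply_right] at h1
    exact Or.inr ⟨h1.symm, e2.symm⟩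
  · rw [Equiv.swap_apply_of_ne_of_ne e1 e2] at h1
    exact absurd h1 hij.symm

theorem ncard_swaps (n : ℕ) : (swaps n).ncard = (Finset.univ.filter fun p : Fin n × Fin n => p.1 < p.2).card := by
  rw [← Set.ncard_coe_finset]
  refine (Set.ncard_congr (fun p _ => swap p.1 p.2) ?_ ?_ ?_).symm
  · intro p hp
    simp only [Finset.coe_filter, Finset.mem_univ, true_and, Set.mem_ofPred_eq] at hp
    exact swap_mem hp.ne
  · intro p q hp hq h
    simp only [Finset.coe_filter, Finset.mem_univ, true_and, Set.mem_ofPred_eq] at hp hq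
    rcases swap_pair_eq hp.ne h with ⟨e1, e2⟩ | ⟨e1, e2⟩
    · exact Prod.ext e1.symm e2.symm
    · rw [e1, e2] at hq; exact absurd hq hp.not_gt
  · rintro σ ⟨i, j, hij, rfl⟩
    rcases lt_or_gt_of_ne hij with h | h
    · exact ⟨(i, j), by simpa using h, rfl⟩
    · exact ⟨(j, i), by simpa using h, Equiv.swap_comm j i⟩

theorem swap_commute {n : ℕ} {i j k l : Fin n} (hik : i ≠ k) (hil : i ≠ l) (hjk : j ≠ k) (hjl : j ≠ l) :
    Commute (swap i j) (swap k l) := by
  refine Equiv.Perm.Disjoint.commute fun x => ?_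
  by_cases h : x = i ∨ x = j
  · right
    rcases h with rfl | rfl
    · exact Equiv.swap_apply_of_ne_of_ne hik hil
    · exact Equiv.swap_apply_of_ne_of_ne hjk hjl
  · push Not at h
    exact Or.inl (Equiv.swap_apply_of_ne_of_ne h.1 h.2)

theorem swap_not_commute {n : ℕ} {i j k : Fin n} (hij : i ≠ j) (hjk : j ≠ k) (hik : i ≠ k) :
    ¬ Commute (swap i j) (swap j k) := by
  intro h
  have := Equiv.congr_fun h.eq i
  rw [Equiv.Perm.mul_apply, Equiv.Perm.mul_apply, Equiv.swap_apply_of_ne_of_ne hij hik, Equiv.swap_apply_left,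
    Equiv.swap_apply_left] at this
  exact hjk this

/-- Commuting transpositions are equal or disjoint. -/
theorem swap_commute_cases {n : ℕ} {i j k l : Fin n} (hij : i ≠ j) (hkl : k ≠ l)
    (h : Commute (swap i j) (swap k l)) :
    swap i j = swap k l ∨ (i ≠ k ∧ i ≠ l ∧ j ≠ k ∧ j ≠ l) := by
  have key : ∀ {i j l : Fin n}, i ≠ j → i ≠ l → Commute (swap i j) (swap i l) → swap i j = swap i l := by
    intro i j l hij hil h
    by_cases hjl : j = l
    · rw [hjl]
    · rw [Equiv.swap_comm i j] at h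
      exact absurd h (swap_not_commute hij.symm hil hjl)
  by_cases h1 : i = k
  · subst h1; exact Or.inl (key hij hkl h)
  by_cases h2 : i = l
  · subst h2
    rw [Equiv.swap_comm k i] at h ⊢
    exact Or.inl (key hij hkl.symm h)
  by_cases h3 : j = k
  · subst h3
    rw [Equiv.swap_comm i j] at h ⊢
    exact Or.inl (key hij.symm hkl h)
  by_cases h4 : j = l
  · subst h4
    rw [Equiv.swap_comm i j, Equiv.swap_comm k j] at h ⊢
    exact Or.inl (key hij.symm hkl.symm h)
  exact Or.inr ⟨h1, h2, h3, h4⟩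

/-- The centre of a symmetric group of degree at least three is trivial. -/
theorem eq_one_of_commute {n : ℕ} (hn : 3 ≤ n) {σ : Equiv.Perm (Fin n)}
    (h : ∀ i j, i ≠ j → Commute σ (swap i j)) : σ = 1 := by
  ext i
  obtain ⟨j, hj, k, hk, hjk⟩ : ∃ j, j ≠ i ∧ ∃ k, k ≠ i ∧ j ≠ k := by
    have : 1 < (Finset.univ.erase i).card := by
      rw [Finset.card_erase_of_mem (Finset.mem_univ i), Finset.card_univ, Fintype.card_fin]; omega
    obtain ⟨j, hj, k, hk, hjk⟩ := Finset.one_lt_card.1 this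
    exact ⟨j, (Finset.mem_erase.1 hj).1, k, (Finset.mem_erase.1 hk).1, hjk⟩
  have key : ∀ {j}, j ≠ i → σ i = i ∨ σ i = j := by
    intro j hj
    have e : swap (σ i) (σ j) = swap i j := by
      rw [Equiv.swap_apply_apply σ i j, (h i j hj.symm).eq, mul_inv_cancel_right]
    rcases swap_pair_eq (fun e' => hj (σ.injective e').symm) e with ⟨e1, -⟩ | ⟨-, e2⟩
    · exact Or.inl e1.symm
    · exact Or.inr e2.symm
  rcases key hj with h1 | h1
  · rw [h1]; rfl
  rcases key hk with h2 | h2
  · rw [h2]; rfl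
  · exact absurd (h1.symm.trans h2) hjk

variable {G : Type*} [Group G]

/-- The Coxeter relations of type `A` give a homomorphism from the symmetric group. -/
theorem exists_hom {n : ℕ} (f : Fin n → G) (hsq : ∀ i, f i * f i = 1)
    (hb : ∀ i j : Fin n, (i : ℕ) + 1 = j → f i * f j * f i = f j * f i * f j)
    (hc : ∀ i j : Fin n, (i : ℕ) + 2 ≤ j → Commute (f i) (f j)) :
    ∃ φ : Equiv.Perm (Fin (n + 1)) →* G, ∀ i : Fin n, φ (swap i.castSucc i.succ) = f i := by
  obtain ⟨cs, hcs⟩ := Cfsg.Agent.S2530.result n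
  have hl : CoxeterMatrix.IsLiftable (CoxeterMatrix.A n) f := by
    intro i j
    show (f i * f j) ^ (if i = j then 1 else (if (j : ℕ) + 1 = i ∨ (i : ℕ) + 1 = j then 3 else 2)) = 1
    split_ifs with h1 h2
    · rw [h1, pow_one, hsq]
    · refine pow_three_eq_one (hsq i) (hsq j) ?_
      rcases h2 with h2 | h2
      · exact (hb j i h2).symm
      · exact hb i j h2
    · have hij : Commute (f i) (f j) := by
        have hne : (i : ℕ) ≠ j := fun e => h1 (Fin.ext e)
        rcases lt_or_gt_of_ne hne with h | h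
        · exact hc i j (by omega)
        · exact (hc j i (by omega)).symm
      rw [hij.mul_pow, pow_two, pow_two, hsq, hsq, one_mul]
  exact ⟨cs.lift ⟨f, hl⟩, fun i => by rw [← hcs i, cs.lift_apply_simple hl]⟩

/-- A homomorphism from a symmetric group of degree at least five is injective if it separates two
disjoint transpositions. -/
theorem injective_of_ne {n : ℕ} (hn : 5 ≤ n) (φ : Equiv.Perm (Fin n) →* G) {i j k l : Fin n} (hij : i ≠ j)
    (hkl : k ≠ l) (hne : φ (swap i j) ≠ φ (swap k l)) : Function.Injective φ := by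
  rw [← MonoidHom.ker_eq_bot_iff]
  by_contra hb
  have halt := Equiv.Perm.alternatingGroup_le_of_normal (α := Fin n) (by simpa using hn) (N := φ.ker)
    ((Subgroup.nontrivial_iff_ne_bot _).2 hb)
  have h1 : φ (swap i j * swap k l) = 1 := halt (Equiv.Perm.mem_alternatingGroup.2 (by
    rw [map_mul, Equiv.Perm.sign_swap hij, Equiv.Perm.sign_swap hkl]; rfl))
  rw [map_mul, mul_eq_one_iff_eq_inv, ← map_inv, Equiv.swap_inv] at h1
  exact hne h1

theorem commute_map_iff {n : ℕ} {φ : Equiv.Perm (Fin n) →* G} (hinj : Function.Injective φ)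
    (σ τ : Equiv.Perm (Fin n)) : Commute (φ σ) (φ τ) ↔ Commute σ τ :=
  ⟨fun h => hinj (by rw [map_mul, map_mul]; exact h.eq), fun h => h.map φ⟩

theorem commute_of_generators {n : ℕ} {φ : Equiv.Perm (Fin (n + 1)) →* G} {g : G}
    (h : ∀ i : Fin n, Commute g (φ (swap i.castSucc i.succ))) (σ : Equiv.Perm (Fin (n + 1))) :
    Commute g (φ σ) := by
  have hσ : σ ∈ Submonoid.closure (Set.range fun i : Fin n ↦ swap i.castSucc i.succ) := by
    rw [Equiv.Perm.mclosure_swap_castSucc_succ]; trivial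
  induction hσ using Submonoid.closure_induction with
  | mem s hs => obtain ⟨i, rfl⟩ := hs; exact h i
  | one => rw [map_one]; exact Commute.one_right g
  | mul u v _ _ h1 h2 => rw [map_mul]; exact h1.mul_right h2

variable {D : Set G}

/-- Adjoining a transposition commuting with a symmetric group and a transposition braiding with both. -/
theorem extend (hD : IsTT D) [Finite G] {m : ℕ} (hm : 3 ≤ m) {T : Set G} (hT : T ⊆ D)
    (hclosed : ∀ g ∈ Subgroup.closure T, ∀ e ∈ T, g * e * g⁻¹ ∈ T)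
    (ψ : Equiv.Perm (Fin m) →* G) (hψ : ∀ i j : Fin m, i ≠ j → ψ (swap i j) ∈ T) {a c : G} (ha : a ∈ T) (hc : c ∈ T)
    (hac : ¬ Commute a c) (haψ : ∀ i j : Fin m, i ≠ j → Commute a (ψ (swap i j)))
    (hane : ∀ i j : Fin m, i ≠ j → a ≠ ψ (swap i j)) (i₀ : Fin m)
    (hcψ : ∀ i j : Fin m, i ≠ j → (Commute c (ψ (swap i j)) ↔ i ≠ i₀ ∧ j ≠ i₀))
    (hcard : T.ncard ≤ (swaps (m + 2)).ncard) :
    ∃ φ : Equiv.Perm (Fin (m + 2)) →* G, Function.Injective φ ∧ T = φ '' swaps (m + 2) := by
  let z : Fin m := ⟨0, by omega⟩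
  let r : Equiv.Perm (Fin m) := swap z i₀
  let u : ℕ → Fin m := fun k => r ⟨k % m, Nat.mod_lt _ (by omega)⟩
  have hu : ∀ {k l : ℕ}, k < m → l < m → u k = u l → k = l := by
    intro k l hk hl h
    have := congrArg Fin.val (r.injective h)
    simp only [Nat.mod_eq_of_lt hk, Nat.mod_eq_of_lt hl] at this
    exact this
  have hu0 : u 0 = i₀ := by
    show r ⟨0 % m, _⟩ = i₀
    simp only [Nat.zero_mod]
    exact Equiv.swap_apply_left z i₀
  have hune : ∀ {k : ℕ}, 0 < k → k < m → u k ≠ i₀ := fun {k} hk hkm h => by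
    have := hu hkm (show 0 < m by omega) (h.trans hu0.symm); omega
  let t : ℕ → G := fun k => ψ (swap (u k) (u (k + 1)))
  have ht : ∀ {k : ℕ}, k + 1 < m → u k ≠ u (k + 1) := fun {k} hk h => by
    have := hu (by omega) hk h; omega
  let f : Fin (m + 1) → G := fun i => if (i : ℕ) = 0 then a else if (i : ℕ) = 1 then c else t ((i : ℕ) - 2)
  have f0 : ∀ i : Fin (m + 1), (i : ℕ) = 0 → f i = a := fun i h => by simp only [f]; rw [if_pos h]
  have f1 : ∀ i : Fin (m + 1), (i : ℕ) = 1 → f i = c := fun i h => by simp only [f]; rw [if_neg (by omega), if_pos h]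
  have f2 : ∀ i : Fin (m + 1), 2 ≤ (i : ℕ) → f i = t ((i : ℕ) - 2) := fun i h => by
    simp only [f]; rw [if_neg (by omega), if_neg (by omega)]
  have fT : ∀ i, f i ∈ T := by
    intro i
    rcases (show (i : ℕ) = 0 ∨ (i : ℕ) = 1 ∨ 2 ≤ (i : ℕ) by omega) with h | h | h
    · rw [f0 i h]; exact ha
    · rw [f1 i h]; exact hc
    · rw [f2 i h]; exact hψ _ _ (ht (by omega))
  have hsq : ∀ i, f i * f i = 1 := fun i => hD.sq _ (hT (fT i))
  obtain ⟨φ, hφ⟩ := exists_hom f hsq (fun i j hij => by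
    rcases (show (i : ℕ) = 0 ∨ (i : ℕ) = 1 ∨ 2 ≤ (i : ℕ) by omega) with h | h | h
    · rw [f0 i h, f1 j (by omega)]
      exact hD.braid (hT ha) (hT hc) hac
    · rw [f1 i h, f2 j (by omega), show (j : ℕ) - 2 = 0 by omega]
      exact hD.braid (hT hc) (hT (hψ _ _ (ht (by omega)))) fun h' =>
        ((hcψ _ _ (ht (by omega))).1 h').1 hu0
    · rw [f2 i h, f2 j (by omega), show (j : ℕ) - 2 = (i : ℕ) - 2 + 1 by omega]
      set k := (i : ℕ) - 2 with hk
      show ψ _ * ψ _ * ψ _ = ψ _ * ψ _ * ψ _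
      rw [← map_mul, ← map_mul, ← map_mul, ← map_mul]
      congr 1
      have h1 : u k ≠ u (k + 1) := ht (by omega)
      have h2 : u (k + 1) ≠ u (k + 1 + 1) := ht (by omega)
      have h3 : u k ≠ u (k + 1 + 1) := fun e => by have := hu (by omega) (by omega) e; omega
      conv_lhs => rw [show swap (u k) (u (k + 1)) * swap (u (k + 1)) (u (k + 1 + 1)) * swap (u k) (u (k + 1)) =
        swap (u k) (u (k + 1 + 1)) from by
          rw [Equiv.swap_comm (u (k + 1)) (u (k + 1 + 1)), Equiv.swap_comm (u k) (u (k + 1)),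
            Equiv.swap_mul_swap_mul_swap h2.symm h3.symm, Equiv.swap_comm]]
      rw [Equiv.swap_comm (u k) (u (k + 1)), Equiv.swap_comm (u (k + 1)) (u (k + 1 + 1))]
      conv_rhs => rw [Equiv.swap_comm (u (k + 1 + 1)) (u (k + 1)), Equiv.swap_comm (u (k + 1)) (u k),
        Equiv.swap_mul_swap_mul_swap h1 h3, Equiv.swap_comm])
    (fun i j hij => by
    rcases (show (i : ℕ) = 0 ∨ (i : ℕ) = 1 ∨ 2 ≤ (i : ℕ) by omega) with h | h | h
    · rw [f0 i h, f2 j (by omega)]
      exact haψ _ _ (ht (by omega))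
    · rw [f1 i h, f2 j (by omega)]
      exact (hcψ _ _ (ht (by omega))).2 ⟨hune (by omega) (by omega), hune (by omega) (by omega)⟩
    · rw [f2 i h, f2 j (by omega)]
      exact (swap_commute (fun e => by have := hu (by omega) (by omega) e; omega)
        (fun e => by have := hu (by omega) (by omega) e; omega)
        (fun e => by have := hu (by omega) (by omega) e; omega)
        (fun e => by have := hu (by omega) (by omega) e; omega)).map ψ)
  have hinj : Function.Injective φ := by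
    refine injective_of_ne (by omega) φ (i := (⟨0, by omega⟩ : Fin (m + 1)).castSucc)
      (j := (⟨0, by omega⟩ : Fin (m + 1)).succ) (k := (⟨2, by omega⟩ : Fin (m + 1)).castSucc)
      (l := (⟨2, by omega⟩ : Fin (m + 1)).succ) Fin.castSucc_lt_succ.ne Fin.castSucc_lt_succ.ne ?_
    rw [hφ, hφ, f0 _ rfl, f2 _ le_rfl]
    exact hane _ _ (ht (by simp; omega))
  refine ⟨φ, hinj, (Set.eq_of_subset_of_ncard_le ?_ ?_ (Set.toFinite _)).symm⟩
  · have hrange : ∀ σ, φ σ ∈ Subgroup.closure T := by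
      intro σ
      have hσ : σ ∈ Submonoid.closure (Set.range fun i : Fin (m + 1) ↦ swap i.castSucc i.succ) := by
        rw [Equiv.Perm.mclosure_swap_castSucc_succ]; trivial
      induction hσ using Submonoid.closure_induction with
      | mem s hs => obtain ⟨i, rfl⟩ := hs; rw [hφ]; exact Subgroup.subset_closure (fT i)
      | one => rw [map_one]; exact one_mem _
      | mul x y _ _ h1 h2 => rw [map_mul]; exact mul_mem h1 h2
    rintro _ ⟨σ, ⟨i, j, hij, rfl⟩, rfl⟩
    obtain ⟨g, hg⟩ := isConj_iff.1 (Equiv.Perm.isConj_swap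
      (Fin.castSucc_lt_succ (i := (⟨0, by omega⟩ : Fin (m + 1)))).ne hij)
    rw [← hg, map_mul, map_mul, map_inv, hφ, f0 _ rfl]
    exact hclosed _ (hrange g) a ha
  · rw [Set.ncard_image_of_injective _ hinj]; exact hcard

end CfsgLib.SymFix
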